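import Groth.Agent.EtShLib.StrictLocal
import Groth.Agent.EtShLib.PushStalk
import Groth.Agent.LocSuppLib.General
import Groth.Agent.EtSliceLib.Basic
import Groth.Agent.WLocalLib.Finite
import Groth.Agent.EtShLib.Noeth
import Groth.Prelude.Def_EtCore

/-!
# Direct images from a separably closed point
-/

set_option autoImplicit false
set_option linter.unusedSectionVars false
set_option linter.style.haveILetI false
set_option backward.isDefEq.respectTransparency false
set_option backward.isDefEq.respectTransparency.types false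
set_option maxHeartbeats 1000000

universe u

open CategoryTheory CategoryTheory.Limits AlgebraicGeometry Opposite
open Groth.Agent.EtShLib

namespace SepPointLib

variable (K : Type u) [Field K] [IsSepClosed K]

theorem surjective_sections {F G : EtCoh.Ab (Spec (CommRingCat.of K))} (α : F ⟶ G) [Epi α]
    (W : (Spec (CommRingCat.of K)).Etale) : Function.Surjective (α.hom.app (op W)) := fun y => by
  let φ : W.left ⟶ Spec (CommRingCat.of K) := W.hom
  haveI : AlgebraicGeometry.Etale φ := W.prop
  haveI : LocallyQuasiFinite φ := Groth.Agent.EtShLib.locallyQuasiFinite_of_etale φ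
  haveI : IsSepClosed (IsLocalRing.ResidueField K) := Groth.Agent.WLocalLib.isSepClosed_of_equiv
    (RingEquiv.ofBijective (IsLocalRing.residue K) ⟨(IsLocalRing.residue K).injective, IsLocalRing.residue_surjective⟩)
  haveI : DiscreteTopology W.left := by
    have h := φ.isDiscrete_preimage_singleton default
    rw [show φ ⁻¹' {(default : ↥(Spec (CommRingCat.of K)))} = Set.univ from
      Set.eq_univ_of_forall fun z => Subsingleton.elim _ _] at h
    exact isDiscrete_univ_iff.1 h
  choose l hl hl' using fun w : W.left => Scheme.exists_fac_of_etale_of_isSepClosed φ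
    (𝟙 (Spec (CommRingCat.of K))) w (Subsingleton.elim _ _)
  let s : ∀ w : W.left, EtCoh.top (Spec (CommRingCat.of K)) ⟶ W := fun w => MorphismProperty.Over.homMk (l w) (hl w)
  have hs : ∀ w (z : ↥(Spec (CommRingCat.of K))), (s w).left z = w := fun w z => by
    rw [Subsingleton.elim z default]; exact hl' w
  have hmem : Sieve.ofArrows (fun _ : W.left => EtCoh.top (Spec (CommRingCat.of K))) s ∈
      (Spec (CommRingCat.of K)).smallEtaleTopology W := by
    rw [Scheme.ofArrows_mem_smallEtaleTopology_iff]
    exact Set.eq_univ_of_forall fun w => Set.mem_iUnion.2 ⟨w, (default : ↥(Spec (CommRingCat.of K))), hs w _⟩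
  have hsh : ∀ H : EtCoh.Ab (Spec (CommRingCat.of K)), (Presieve.ofArrows
      (fun _ : W.left => EtCoh.top (Spec (CommRingCat.of K))) s).IsSheafFor (H.obj ⋙ forget AddCommGrpCat.{u + 1}) := by
    intro H
    rw [Presieve.isSheafFor_iff_generate]
    exact ((isSheaf_iff_isSheaf_of_type _ _).1
      (GrothendieckTopology.HasSheafCompose.isSheaf H.obj H.property)) _ hmem
  choose x hx using fun w => surjective_sections_of_epi K α (G.obj.map (s w).op y)
  have hcompat : Presieve.Arrows.Compatible (F.obj ⋙ forget AddCommGrpCat.{u + 1}) s x := by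
    intro v w Z p q h
    have hpq : p = q := (EtCore.topIsTerminal _).hom_ext p q
    rcases eq_or_ne v w with rfl | hvw
    · rw [hpq]
    · haveI : IsEmpty Z.left := ⟨fun z => hvw (by
        rw [← hs v (p.left z), ← hs w (q.left z)]
        exact congrArg (fun t : Z ⟶ W => t.left z) h)⟩
      haveI := subsingleton_sect_of_isEmpty F Z
      exact Subsingleton.elim (α := F.obj.obj (op Z)) _ _
  obtain ⟨t, ht, -⟩ := (Presieve.isSheafFor_arrows_iff _ _).1 (hsh F) x hcompat
  refine ⟨t, res_ext G _ _ fun w => ⟨_, s w, ⟨(default : ↥(Spec (CommRingCat.of K))), hs w _⟩, ?_⟩⟩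
  rw [← NatTrans.naturality_apply]
  erw [ht w]
  exact hx w

variable {X : Scheme.{u}} (g : Spec (CommRingCat.of K) ⟶ X)

theorem preservesHomology_push : (EtCoh.push g).PreservesHomology := by
  haveI : (EtCoh.push g).IsRightAdjoint := (EtCoh.pullPushAdj g).isRightAdjoint
  haveI : (EtCoh.push g).PreservesEpimorphisms := ⟨fun {F G} α hα => by
    suffices h : Sheaf.IsLocallySurjective ((EtCoh.push g).map α) from Sheaf.epi_of_isLocallySurjective _
    refine ⟨fun {V} y => ?_⟩
    obtain ⟨x, hx⟩ := surjective_sections K α ((EtCoh.bc g).obj V) y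
    refine X.smallEtaleTopology.superset_covering ?_ (X.smallEtaleTopology.top_mem V)
    intro Z h _
    refine ⟨((EtCoh.push g).obj F).obj.map h.op x, ?_⟩
    show ((EtCoh.push g).map α).hom.app (op Z) _ = _
    rw [NatTrans.naturality_apply]
    exact congrArg (((EtCoh.push g).obj G).obj.map h.op) hx⟩
  exact Functor.preservesHomology_of_preservesEpis_and_kernels _

theorem isZero_rightDerived_push {Y : Scheme.{u}} (f : X ⟶ Y) (F : EtCoh.Ab (Spec (CommRingCat.of K))) (q : ℕ)
    (hq : 1 ≤ q) : IsZero ((EtCoh.Rpush f q).obj ((EtCoh.push g).obj F)) := by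
  haveI := preservesHomology_push K g
  haveI := preservesHomology_push K (g ≫ f)
  haveI : (EtCoh.push g).PreservesInjectiveObjects :=
    Functor.preservesInjectiveObjects_of_adjunction_of_preservesMonomorphisms (EtCoh.pullPushAdj g)
  refine IsZero.of_iso ?_ ((LocSuppLib.mapRes (EtCoh.push g) (injectiveResolution F)).isoRightDerivedObj (EtCoh.push f) q)
  obtain ⟨m, rfl⟩ : ∃ m, q = m + 1 := ⟨q - 1, by omega⟩
  have h2 : HomologicalComplex.ExactAt
      (((EtCoh.push (g ≫ f)).mapHomologicalComplex (ComplexShape.up ℕ)).obj (injectiveResolution F).cocomplex)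
      (m + 1) := ((injectiveResolution F).cocomplex_exactAt_succ m).map (EtCoh.push (g ≫ f))
  refine IsZero.of_iso ((HomologicalComplex.exactAt_iff_isZero_homology _ _).1 h2) ?_
  exact (HomologicalComplex.homologyFunctor _ _ (m + 1)).mapIso
    ((NatIso.mapHomologicalComplex (EtCoh.pushComp f g) (ComplexShape.up ℕ)).app (injectiveResolution F).cocomplex)

end SepPointLib
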